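import Groth.Agent.EtH1Lib.Basic
import Groth.Agent.EtTorLib.TorsorKillApps
import Groth.Agent.EtH0Lib.H0Sets
import Groth.Agent.EtH0Lib.AbBridge
import Groth.Agent.Pi1Hens.General

/-!
# Degree one cohomology of a proper scheme over a henselian pair and of its closed part
-/

set_option autoImplicit false
set_option linter.style.haveILetI false
set_option maxHeartbeats 1000000

universe u

open CategoryTheory CategoryTheory.Limits AlgebraicGeometry Opposite CategoryTheory.Abelian

namespace Groth.Agent.EtH1Lib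

set_option backward.isDefEq.respectTransparency false
set_option backward.isDefEq.respectTransparency.types false

variable {A : Type u} [CommRing A] (I : Ideal A) [HenselianRing A I] {X : Scheme.{u}}
  (f : X ⟶ Spec (CommRingCat.of A)) [IsProper f]

/-- The closed part. -/
noncomputable abbrev closedIncl :
    pullback f (Spec.map (CommRingCat.ofHom (Ideal.Quotient.mk I))) ⟶ X :=
  pullback.fst f (Spec.map (CommRingCat.ofHom (Ideal.Quotient.mk I)))

/-- In degree zero restriction to the closed part is bijective. -/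
theorem bijective_Hpull_zero_closed [PreservesFiniteLimits (EtCoh.pull (closedIncl I f))] (G : EtCoh.Ab X) :
    Function.Bijective (EtCore.Hpull (closedIncl I f) G 0) := by
  haveI : IsClosedImmersion (Spec.map (CommRingCat.ofHom (Ideal.Quotient.mk I))) :=
    IsClosedImmersion.spec_of_surjective _ Ideal.Quotient.mk_surjective
  refine EtAcycBC.bijective_Hpull_zero _ G ?_
  rw [EtMVLib.pullSec_app]
  exact (ConcreteCategory.bijective_of_isIso ((EtCore.pushGsecIso (closedIncl I f)).hom.app _)).comp
    (EtH0Lib.bijective_unit_top _ G (EtH0Lib.bijective_secPull I f _ (EtH0Lib.range_fst_mk' I f) _))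

include f in
/-- Every point specializes to the closed part. -/
theorem exists_specializes_closed (x : X) : ∃ z ∈ Set.range (closedIncl I f), x ⤳ z := by
  obtain ⟨M, hM, hxM⟩ := Ideal.exists_le_maximal (f.base x).asIdeal (f.base x).2.ne_top
  let m : Spec (CommRingCat.of A) := ⟨M, hM.isPrime⟩
  have hm : f.base x ⤳ m := (PrimeSpectrum.le_iff_specializes _ _).1 hxM
  have hcl : IsClosed (f.base '' closure {x}) := f.isClosedMap _ isClosed_closure
  obtain ⟨z, hz, hzm⟩ := hm.mem_closed hcl ⟨x, subset_closure (Set.mem_singleton x), rfl⟩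
  refine ⟨z, ?_, specializes_iff_mem_closure.2 hz⟩
  rw [EtH0Lib.range_fst_mk']
  show I ≤ (f.base z).asIdeal
  rw [hzm]
  exact (HenselianRing.jac (I := I)).trans (sInf_le ⟨bot_le, hM⟩)

/-- Restriction to the closed part is bijective in degree one, for sheaves which are finite locally constant
and killed by a positive integer there. -/
theorem bijective_Hpull_one [PreservesFiniteLimits (EtCoh.pull (closedIncl I f))] (F : EtCoh.Ab X)
    (F₀ : EtCoh.Ab (pullback f (Spec.map (CommRingCat.ofHom (Ideal.Quotient.mk I)))))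
    (e : (EtCoh.pull (closedIncl I f)).obj F ≅ F₀) (hF : EtCoh.IsFiniteLocallyConstant F₀) {n : ℕ} (hn : 0 < n)
    (hnF : EtCoh.KilledBy n F₀) : Function.Bijective (EtCore.Hpull (closedIncl I f) F 1) := by
  let i := closedIncl I f
  have h0 : ∀ G : EtCoh.Ab X, Function.Bijective (EtCore.Hpull i G 0) := bijective_Hpull_zero_closed I f
  refine ⟨injective_Hpull_one i h0 F, fun ξ => ?_⟩
  obtain ⟨T₀, g₀, hgf, hge, hgs, hg⟩ :=
    EtTorLib.exists_finite_etale_kill F₀ hF hn hnF ((EtCoh.HF _ 1).map e.hom ξ)
  haveI := hgf; haveI := hge; haveI := hgs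
  haveI := EtFound.pull_preservesFiniteLimits g₀
  let V₀ : FEt.Cat (pullback f (Spec.map (CommRingCat.ofHom (Ideal.Quotient.mk I)))) :=
    MorphismProperty.Over.mk ⊤ g₀ ⟨hgf, hge⟩
  obtain ⟨V, ⟨u⟩⟩ := Pi1Hens.exists_lift I f V₀
  haveI : IsFinite V.hom := V.prop.1
  haveI : Etale V.hom := V.prop.2
  let j : T₀ ≅ pullback V.hom i :=
    ((MorphismProperty.Over.forget FEt.prop.{u} ⊤ _ ⋙ Over.forget _).mapIso u).symm
  have hj : j.hom ≫ pullback.snd V.hom i = g₀ := MorphismProperty.Over.w u.inv
  have sq : IsPullback (j.hom ≫ pullback.fst V.hom i) g₀ V.hom i :=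
    IsPullback.of_iso (IsPullback.of_hasPullback V.hom i) j.symm (Iso.refl _) (Iso.refl _) (Iso.refl _)
      (by simp) (by simp [← hj]) (by simp) (by simp)
  haveI : Surjective V.hom := ⟨fun x => by
    obtain ⟨_, ⟨z, rfl⟩, hz⟩ := exists_specializes_closed I f x
    obtain ⟨t, ht⟩ := Surjective.surj (f := g₀) z
    refine hz.mem_open V.hom.isOpenMap.isOpen_range ⟨(j.hom ≫ pullback.fst V.hom i).base t, ?_⟩
    rw [← Scheme.Hom.comp_apply, sq.w, Scheme.Hom.comp_apply, ht]
    rfl⟩
  have hmono := mono_unit_of_surjective V.hom F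
  haveI := EtFound.pull_preservesFiniteLimits V.hom
  refine @mem_range_of_finite_cover _ _ _ _ i _ h0 V.hom _ g₀ _ _ sq F hmono ξ ?_
  have h₁ : EtCore.Hpull g₀ F₀ 1 (Ext.comp ξ (Ext.mk₀ e.hom) (add_zero 1)) = 0 := hg
  rw [EtLeray.Hpull_map] at h₁
  refine (ConcreteCategory.bijective_of_isIso ((EtCoh.HF T₀ 1).map ((EtCoh.pull g₀).map e.hom))).1 ?_
  exact h₁.trans (map_zero _).symm

/-- The case of finite constant coefficients. -/
theorem bijective_Hpull_one_const [PreservesFiniteLimits (EtCoh.pull (closedIncl I f))] (M : Type) [AddCommGroup M]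
    [Finite M] : Function.Bijective (EtCore.Hpull (closedIncl I f) (EtCoh.const X M) 1) :=
  bijective_Hpull_one I f _ _ (EtCore.pullConst (closedIncl I f) M) (EtTorLib.isFiniteLocallyConstant_const M)
    Nat.card_pos (EtTorLib.killedBy_const M)

end Groth.Agent.EtH1Lib
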