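import Groth.Agent.EtAcycBC.ConstCoeff
import Groth.Agent.EtFound.FiniteBaseChange
import Groth.Agent.EtFound.Stalk
import Groth.Agent.EtFound.PullStalk
import Groth.Agent.EtBCFib.PushCongr
import Groth.Agent.EtLeray.CompN
import Groth.Agent.GalTorLib.Basic
import Groth.Agent.S0621
import Groth.Prelude.Def_EtLim

/-!
# Degree one from degree zero: injectivity, and surjectivity on classes killed by a finite cover
-/

set_option autoImplicit false
set_option linter.style.haveILetI false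
set_option maxHeartbeats 1000000

universe w v v' u u'

open CategoryTheory CategoryTheory.Limits AlgebraicGeometry Opposite CategoryTheory.Abelian

namespace Groth.Agent.EtH1Lib

set_option backward.isDefEq.respectTransparency false
set_option backward.isDefEq.respectTransparency.types false

section Abstract

variable {A : Type u} [Category.{v} A] [Abelian A] [EnoughInjectives A] [HasExt.{w} A]
  {B : Type u'} [Category.{v'} B] [Abelian B] [HasExt.{w} B]
  {L : B ⥤ A} {R : A ⥤ B} [L.Additive] [R.Additive] [PreservesFiniteLimits L] [PreservesFiniteColimits L]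
  (adj : L ⊣ R) {ZA : A} {ZB : B} (i : ZA ⟶ L.obj ZB)

/-- The canonical map out of a direct image is injective in degree one. -/
theorem hof_injective_one [IsIso i] [PreservesFiniteLimits R] (F : A) (e : Ext.{w} ZB (R.obj F) 1)
    (he : ((Ext.mk₀ i).comp (e.mapExactFunctor L) (zero_add 1)).comp (Ext.mk₀ (adj.counit.app F)) (add_zero 1) = 0) :
    e = 0 := by
  let S := ShortComplex.mk (Injective.ι F) (cokernel.π (Injective.ι F)) (cokernel.condition _)
  have hS : S.ShortExact := { exact := ShortComplex.exact_of_g_is_cokernel _ (cokernelIsCokernel _) }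
  haveI : Injective S.X₂ := inferInstanceAs (Injective (Injective.under F))
  haveI : Injective (R.obj S.X₂) := Injective.injective_of_adjoint adj _
  haveI := hS.mono_f
  haveI : Mono (R.map S.f) := inferInstance
  let T := ShortComplex.mk (R.map S.f) (cokernel.π (R.map S.f)) (cokernel.condition _)
  have hT : T.ShortExact := { exact := ShortComplex.exact_of_g_is_cokernel _ (cokernelIsCokernel _) }
  haveI : Injective T.X₂ := ‹Injective (R.obj S.X₂)›
  let d : T.X₃ ⟶ R.obj S.X₃ :=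
    cokernel.desc (R.map S.f) (R.map S.g) (by rw [← R.map_comp, S.zero, R.map_zero])
  have hd : T.g ≫ d = R.map S.g := cokernel.π_desc _ _ _
  haveI : Mono d := by
    rw [Preadditive.mono_iff_cancel_zero]
    intro P a ha
    obtain ⟨P', p, hp, b, hb⟩ := surjective_up_to_refinements_of_epi T.g a
    have hb0 : b ≫ R.map S.g = 0 := by rw [← hd, ← Category.assoc, ← hb, Category.assoc, ha, comp_zero]
    have hex : (S.map R).Exact := hS.exact.map_of_mono_of_preservesKernel R ‹Mono S.f› inferInstance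
    haveI : Mono (S.map R).f := ‹Mono (R.map S.f)›
    rw [← cancel_epi p, comp_zero, hb, ← hex.lift_f b hb0, Category.assoc]
    exact (congrArg (hex.lift b hb0 ≫ ·) T.zero).trans comp_zero
  obtain ⟨y, rfl⟩ := Ext.covariant_sequence_exact₁ ZB hT e (Ext.eq_zero_of_injective _) (n₀ := 0) rfl
  obtain ⟨φ, rfl⟩ := (Ext.mk₀_bijective _ _).2 y
  have hn : (hT.extClass.mapExactFunctor L).comp (Ext.mk₀ (adj.counit.app F)) (add_zero 1) =
      (Ext.mk₀ (L.map d ≫ adj.counit.app S.X₃)).comp hS.extClass (zero_add 1) :=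
    (congrArg (fun t => Ext.comp t (Ext.mk₀ (adj.counit.app F)) (add_zero 1))
      (Ext.mapExactFunctor_extClass L hT)).trans
      (ShortComplex.ShortExact.extClass_naturality (hT.map_of_exact L) hS
        ({ τ₁ := adj.counit.app S.X₁, τ₂ := adj.counit.app S.X₂, τ₃ := L.map d ≫ adj.counit.app S.X₃
           comm₁₂ := (adj.counit.naturality S.f).symm
           comm₂₃ := by
            show adj.counit.app S.X₂ ≫ S.g = L.map T.g ≫ L.map d ≫ adj.counit.app S.X₃
            rw [← Category.assoc (L.map T.g), ← L.map_comp, hd]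
            exact (adj.counit.naturality S.g).symm } : T.map L ⟶ S))
  rw [Ext.mapExactFunctor_comp, Ext.mapExactFunctor_mk₀, Ext.mk₀_comp_mk₀_assoc,
    Ext.comp_assoc_of_third_deg_zero, hn, Ext.mk₀_comp_mk₀_assoc] at he
  simp only [Category.assoc] at he
  obtain ⟨w₀, hw₀⟩ := Ext.covariant_sequence_exact₃ ZA hS _ (n₁ := 1) rfl he
  obtain ⟨a, rfl⟩ := (Ext.mk₀_bijective _ _).2 w₀
  rw [Ext.mk₀_comp_mk₀] at hw₀
  have ha : a ≫ S.g = i ≫ L.map φ ≫ L.map d ≫ adj.counit.app S.X₃ := (Ext.mk₀_bijective _ _).1 hw₀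
  have hφd : φ ≫ d = (adj.homEquiv ZB S.X₂ (inv i ≫ a) ≫ T.g) ≫ d := by
    rw [Category.assoc, hd, ← Adjunction.homEquiv_naturality_right]
    refine (adj.homEquiv ZB S.X₃).symm.injective ?_
    rw [Equiv.symm_apply_apply, Adjunction.homEquiv_counit, L.map_comp, Category.assoc, Category.assoc, ha,
      IsIso.inv_hom_id_assoc]
  rw [(cancel_mono d).1 hφd, ← Ext.mk₀_comp_mk₀_assoc, hT.comp_extClass, Ext.comp_zero]

end Abstract

section Scheme

variable {X Z : Scheme.{u}} (i : Z ⟶ X) [PreservesFiniteLimits (EtCoh.pull i)]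

/-- A class killed by pullback is killed by the unit. -/
theorem HF_unit_eq_zero {T : Scheme.{u}} (g : T ⟶ X) [PreservesFiniteLimits (EtCoh.pull g)] (A : EtCoh.Ab X)
    (ξ : EtCoh.H X A 1) (h : EtCore.Hpull g A 1 ξ = 0) :
    (EtCoh.HF X 1).map ((EtCoh.pullPushAdj g).unit.app A) ξ = 0 := by
  haveI : (EtCoh.pull g).IsLeftAdjoint := (EtCoh.pullPushAdj g).isLeftAdjoint
  haveI : (EtCoh.push g).IsRightAdjoint := (EtCoh.pullPushAdj g).isRightAdjoint
  refine hof_injective_one (EtCoh.pullPushAdj g) (EtCore.pullConst g ℤ).inv _ _ ?_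
  exact (GalTorLib.hofPush_unit g A 1 ξ).trans h

/-- Degree one pullback is injective when degree zero pullback is bijective. -/
theorem injective_Hpull_one (h0 : ∀ A : EtCoh.Ab X, Function.Bijective (EtCore.Hpull i A 0)) (F : EtCoh.Ab X) :
    Function.Injective (EtCore.Hpull i F 1) := by
  let S := ShortComplex.mk (Injective.ι F) (cokernel.π (Injective.ι F)) (cokernel.condition _)
  have hS : S.ShortExact := { exact := ShortComplex.exact_of_g_is_cokernel _ (cokernelIsCokernel _) }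
  haveI : Injective S.X₂ := inferInstanceAs (Injective (Injective.under F))
  refine (injective_iff_map_eq_zero _).2 fun ξ hξ => ?_
  obtain ⟨y, rfl⟩ := Ext.covariant_sequence_exact₁ _ hS ξ (Ext.eq_zero_of_injective _) (n₀ := 0) rfl
  rw [EtLeray.Hpull_extClass i hS 0 y] at hξ
  obtain ⟨z, hz⟩ := Ext.covariant_sequence_exact₃ _ (hS.map_of_exact (EtCoh.pull i)) _ (n₁ := 1) rfl hξ
  obtain ⟨z', rfl⟩ := (h0 S.X₂).2 z
  have hy : z'.comp (Ext.mk₀ S.g) (add_zero 0) = y := (h0 S.X₃).1 ((EtLeray.Hpull_map i S.g 0 z').trans hz)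
  rw [← hy, Ext.comp_assoc_of_second_deg_zero, hS.comp_extClass, Ext.comp_zero]

/-- A class killed by a monomorphism comes from the ambient scheme. -/
theorem mem_range_of_mono (h0 : ∀ A : EtCoh.Ab X, Function.Bijective (EtCore.Hpull i A 0)) {F G : EtCoh.Ab X}
    (u : F ⟶ G) [Mono u] (ξ : EtCoh.H Z ((EtCoh.pull i).obj F) 1)
    (h : (EtCoh.HF Z 1).map ((EtCoh.pull i).map u) ξ = 0) : ξ ∈ Set.range (EtCore.Hpull i F 1) := by
  let S := ShortComplex.mk u (cokernel.π u) (cokernel.condition u)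
  have hS : S.ShortExact := { exact := ShortComplex.exact_of_g_is_cokernel _ (cokernelIsCokernel u) }
  obtain ⟨y₀, rfl⟩ := Ext.covariant_sequence_exact₁ _ (hS.map_of_exact (EtCoh.pull i)) ξ h (n₀ := 0) rfl
  obtain ⟨y, rfl⟩ := (h0 S.X₃).2 y₀
  exact ⟨_, EtLeray.Hpull_extClass i hS 0 y⟩

end Scheme

theorem homEquiv_comp2_congr {X T T₀ : Scheme.{u}} (g : T ⟶ X) (i' : T₀ ⟶ T) (a : T₀ ⟶ X) (h : i' ≫ g = a)
    {F : EtCoh.Ab X} {G : EtCoh.Ab T} {M : EtCoh.Ab T₀} (α : (EtCoh.pull g).obj F ⟶ G)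
    (β : (EtCoh.pull i').obj G ⟶ M) :
    (EtCoh.pullPushAdj a).homEquiv _ _ (EtContLib.comp2 i' g a h α β) =
      ((EtCoh.pullPushAdj g).homEquiv _ _ α ≫
        (EtCoh.push g).map ((EtCoh.pullPushAdj i').homEquiv _ _ β) ≫ (EtCoh.pushComp g i').hom.app M) ≫
          (EtCoh.pushCongr h).hom.app M := by
  subst h
  rw [EtContLib.homEquiv_comp2]
  simp only [EtBCFib.pushCongr_rfl_app, Category.comp_id]

theorem comp2_via {X Z T₀ : Scheme.{u}} (g₀ : T₀ ⟶ Z) (i : Z ⟶ X) (F : EtCoh.Ab X) {M : EtCoh.Ab T₀}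
    (c : (EtCoh.pull (g₀ ≫ i)).obj F ⟶ M) :
    EtContLib.comp2 g₀ i (g₀ ≫ i) rfl (𝟙 _) ((EtContLib.pullVia g₀ i (g₀ ≫ i) rfl F).hom ≫ c) = c := by
  rw [EtContLib.comp2_comp_right]
  refine Eq.trans (congrArg (· ≫ c) ?_) (Category.id_comp c)
  simp [EtContLib.comp2, EtContLib.pullVia, EtCore.pullCongr]

/-- The base change map carries the unit to the unit. -/
theorem pull_unit_baseChange0 {X T Z T₀ : Scheme.{u}} (g : T ⟶ X) (i : Z ⟶ X) (g₀ : T₀ ⟶ Z) (i' : T₀ ⟶ T)
    (w : i' ≫ g = g₀ ≫ i) (F : EtCoh.Ab X) :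
    ∃ δ : (EtCoh.pull g₀).obj ((EtCoh.pull i).obj F) ⟶ (EtCoh.pull i').obj ((EtCoh.pull g).obj F),
      (EtCoh.pull i).map ((EtCoh.pullPushAdj g).unit.app F) ≫ EtCoh.baseChange0 g i g₀ i' w ((EtCoh.pull g).obj F) =
        (EtCoh.pullPushAdj g₀).unit.app ((EtCoh.pull i).obj F) ≫ (EtCoh.push g₀).map δ := by
  let δ : (EtCoh.pull g₀).obj ((EtCoh.pull i).obj F) ⟶ (EtCoh.pull i').obj ((EtCoh.pull g).obj F) :=
    (EtContLib.pullVia g₀ i (g₀ ≫ i) rfl F).hom ≫ EtContLib.comp2 i' g (g₀ ≫ i) w (𝟙 _) (𝟙 _)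
  refine ⟨δ, ((EtCoh.pullPushAdj i).homEquiv _ _).injective ?_⟩
  rw [Adjunction.homEquiv_naturality_left, ← Adjunction.homEquiv_unit _ _ _ δ]
  refine (cancel_mono ((EtCoh.pushComp i g₀).hom.app ((EtCoh.pull i').obj ((EtCoh.pull g).obj F)))).1 ?_
  rw [EtCoh.baseChange0]
  erw [Equiv.apply_symm_apply]
  have h₁ := homEquiv_comp2_congr g i' (g₀ ≫ i) w (𝟙 ((EtCoh.pull g).obj F)) (𝟙 _)
  have h₂ := EtContLib.homEquiv_comp2 g₀ i (𝟙 ((EtCoh.pull i).obj F)) δ
  rw [comp2_via, h₁, Adjunction.homEquiv_id, Adjunction.homEquiv_id, Adjunction.homEquiv_id] at h₂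
  simp only [Category.assoc, Iso.inv_hom_id_app, Category.comp_id] at h₂ ⊢
  refine h₂.trans ?_
  rw [Adjunction.homEquiv_unit (adj := EtCoh.pullPushAdj i), Category.assoc]
  rfl

/-- A class killed by pullback along a finite cover comes from the ambient scheme. -/
theorem mem_range_of_finite_cover {X Z T T₀ : Scheme.{u}} (i : Z ⟶ X) [PreservesFiniteLimits (EtCoh.pull i)]
    (h0 : ∀ A : EtCoh.Ab X, Function.Bijective (EtCore.Hpull i A 0))
    (g : T ⟶ X) [IsFinite g] (g₀ : T₀ ⟶ Z) [PreservesFiniteLimits (EtCoh.pull g₀)] (i' : T₀ ⟶ T)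
    (sq : IsPullback i' g₀ g i) (F : EtCoh.Ab X) [Mono ((EtCoh.pullPushAdj g).unit.app F)]
    (ξ : EtCoh.H Z ((EtCoh.pull i).obj F) 1) (hξ : EtCore.Hpull g₀ ((EtCoh.pull i).obj F) 1 ξ = 0) :
    ξ ∈ Set.range (EtCore.Hpull i F 1) := by
  refine mem_range_of_mono i h0 ((EtCoh.pullPushAdj g).unit.app F) ξ ?_
  obtain ⟨δ, hδ⟩ := pull_unit_baseChange0 g i g₀ i' sq.w F
  haveI : IsIso (EtCoh.baseChange0 g i g₀ i' sq.w ((EtCoh.pull g).obj F)) := S0621.result g i g₀ i' sq _
  have h₂ := congrArg (fun φ => ((EtCoh.HF Z 1).map φ).hom ξ) hδ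
  simp only [Functor.map_comp] at h₂
  refine (ConcreteCategory.bijective_of_isIso ((EtCoh.HF Z 1).map
    (EtCoh.baseChange0 g i g₀ i' sq.w ((EtCoh.pull g).obj F)))).1 ?_
  refine h₂.trans ?_
  show (EtCoh.HF Z 1).map ((EtCoh.push g₀).map δ)
    ((EtCoh.HF Z 1).map ((EtCoh.pullPushAdj g₀).unit.app ((EtCoh.pull i).obj F)) ξ) = _
  rw [HF_unit_eq_zero g₀ _ ξ hξ, map_zero, map_zero]

/-- The unit of a surjective etale morphism is a monomorphism. -/
theorem mono_unit_of_surjective {X T : Scheme.{u}} (g : T ⟶ X) [Etale g] [Surjective g] (F : EtCoh.Ab X) :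
    Mono ((EtCoh.pullPushAdj g).unit.app F) := by
  haveI := EtFound.pull_preservesFiniteLimits g
  refine Preadditive.mono_iff_cancel_zero _ |>.2 fun A a ha => ?_
  have h₀ : (EtCoh.pull g).map a = 0 := by
    have := congrArg (fun z => (EtCoh.pull g).map z ≫ (EtCoh.pullPushAdj g).counit.app _) ha
    simp only [Functor.map_comp, Category.assoc, Functor.map_zero, zero_comp] at this
    erw [(EtCoh.pullPushAdj g).left_triangle_components F, Category.comp_id] at this
    exact this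
  refine EtFound.eq_of_stalks a 0 fun Ω _ _ ξ => ?_
  obtain ⟨v, hv⟩ := Surjective.surj (f := g) (ξ.base default)
  obtain ⟨l, hl, -⟩ := Scheme.exists_fac_of_etale_of_isSepClosed g ξ v hv
  subst hl
  rw [Functor.map_zero]
  refine (cancel_epi ((EtFound.stalkPullIso g l).hom.app A)).1 ?_
  rw [comp_zero]
  refine ((EtFound.stalkPullIso g l).hom.naturality a).symm.trans ?_
  rw [Functor.comp_map, h₀, Functor.map_zero, zero_comp]

end Groth.Agent.EtH1Lib
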